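import Groth.Agent.EtCompLib.Main
import Groth.Agent.EtShLib.TorsionColim
import Groth.Agent.EtShLib.TorsionCoh
import Groth.Agent.EtShLib.Compact

/-!
Effacement of the cohomology of constructible abelian sheaves by constructible abelian sheaves.
-/

set_option autoImplicit false
set_option linter.unusedSectionVars false
set_option linter.style.haveILetI false
set_option backward.isDefEq.respectTransparency false
set_option backward.isDefEq.respectTransparency.types false
set_option synthInstance.maxHeartbeats 400000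
set_option maxHeartbeats 1600000

universe u

open CategoryTheory CategoryTheory.Limits AlgebraicGeometry Opposite CategoryTheory.Abelian
open Groth.Agent.EtShLib Groth.Agent.EtCompLib

namespace Groth.Agent.ConsEffaceLib

variable {X : Scheme.{u}}

theorem app_nsmul_id (F : EtCoh.Ab X) (m : ℕ) (U : X.Etale) (s : F.obj.obj (op U)) :
    (m • 𝟙 F).hom.app (op U) s = m • s := by
  show AddCommGrpCat.homAddEquiv (((sheafToPresheaf _ _).map (m • 𝟙 F)).app (op U)) s = _
  rw [Functor.map_nsmul, NatTrans.app_nsmul, map_nsmul, AddMonoidHom.nsmul_apply]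
  rfl

theorem nsmul_extConst {U : X.Etale} {n m : ℕ} [NeZero n] (h : n ∣ m) :
    m • 𝟙 (EtPBC.extZeroConst U (ZMod n)) = 0 := by
  refine extConst_hom_ext_gen U n ?_
  rw [app_nsmul_id]
  show m • extConstSec U (ZMod n) (ULift.up 1) = 0
  rw [← map_nsmul]
  refine (congrArg _ (?_ : m • (ULift.up 1 : ULift.{u + 1} (ZMod n)) = 0)).trans (map_zero _)
  apply ULift.ext
  show m • (1 : ZMod n) = 0
  rw [nsmul_one, ZMod.natCast_eq_zero_iff]
  exact h

theorem exists_nsmul_eq_zero [CompactSpace X] [QuasiSeparatedSpace X] {F : EtCoh.Ab X}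
    (hF : IsCons (A := AddCommGrpCat.{u + 1}) FinP F) : ∃ N : ℕ, 0 < N ∧ N • 𝟙 F = 0 := by
  obtain ⟨a, U, n, hn, φ, hφ⟩ := exists_epi_cons hF (torsionBy_of_isCons hF) (fun _ h => h)
  refine ⟨∏ i, n i, Finset.prod_pos fun i _ => (hn i).1, ?_⟩
  rw [← cancel_epi φ, comp_zero, Preadditive.comp_nsmul, Category.comp_id]
  refine biproduct.hom_ext' _ _ fun i => ?_
  haveI : NeZero (n i) := ⟨(hn i).1.ne'⟩
  rw [comp_zero, Preadditive.comp_nsmul]
  rw [← Category.id_comp (biproduct.ι _ i ≫ φ), ← Preadditive.nsmul_comp,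
    nsmul_extConst (Finset.dvd_prod_of_mem n (Finset.mem_univ i)), zero_comp]

theorem mono_nsmul_constZ (N : ℕ) (hN : 0 < N) : Mono (N • 𝟙 (constZ X)) := by
  let T := constantSheaf X.smallEtaleTopology AddCommGrpCat.{u + 1}
  let Z := AddCommGrpCat.of (ULift.{u + 1} ℤ)
  haveI : PreservesFiniteLimits T := by
    dsimp only [T, constantSheaf]
    infer_instance
  haveI : T.Additive := Functor.additive_of_preserves_binary_products T
  haveI : Mono (N • 𝟙 Z) := by
    rw [AddCommGrpCat.mono_iff_injective]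
    intro x y h
    have e : ∀ z : Z, (N • 𝟙 Z) z = N • z := fun z => by
      show AddCommGrpCat.homAddEquiv (N • 𝟙 Z) z = _
      rw [map_nsmul, AddMonoidHom.nsmul_apply]
      rfl
    rw [e, e] at h
    have h' : N • x.down = N • y.down := congrArg ULift.down h
    exact ULift.ext _ _ (nsmul_right_injective hN.ne' h')
  have e : N • 𝟙 (constZ X) = T.map (N • 𝟙 Z) := by
    rw [Functor.map_nsmul, CategoryTheory.Functor.map_id]
  rw [e]
  exact T.map_mono _

theorem mono_nsmul_free (U : X.Etale) (N : ℕ) (hN : 0 < N) : Mono (N • 𝟙 (free U)) := by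
  haveI : AlgebraicGeometry.Etale U.hom := U.prop
  haveI := jCont U.hom
  obtain ⟨e⟩ := nonempty_extZero_top_iso U
  haveI : (EtShriek.restrAlong U.hom).Additive := { }
  haveI : (EtShriek.extZero U.hom).Additive := (EtShriek.extZeroAdj U.hom).left_adjoint_additive
  haveI : PreservesFiniteLimits (EtShriek.extZero U.hom) := preservesFiniteLimits_extZero U.hom
  haveI := mono_nsmul_constZ (X := U.left) N hN
  haveI : Mono (N • 𝟙 ((EtShriek.extZero U.hom).obj (constZ U.left))) := by
    rw [← CategoryTheory.Functor.map_id, ← Functor.map_nsmul]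
    exact (EtShriek.extZero U.hom).map_mono _
  have h : N • 𝟙 (free U) = e.inv ≫ (N • 𝟙 ((EtShriek.extZero U.hom).obj (constZ U.left))) ≫ e.hom := by
    rw [Preadditive.nsmul_comp, Preadditive.comp_nsmul]
    erw [Category.id_comp, Iso.inv_hom_id]
    rfl
  rw [h]
  infer_instance

variable {I : EtCoh.Ab X} [Injective I] (N : ℕ) (hN : 0 < N)

include hN in
theorem exists_nsmul_eq {M : EtCoh.Ab X} (hM : Mono (N • 𝟙 M)) (s : M ⟶ I) : ∃ t : M ⟶ I, t ≫ (N • 𝟙 I) = s := by
  haveI := hM
  refine ⟨Injective.factorThru s (N • 𝟙 M), ?_⟩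
  conv_rhs => rw [← Injective.comp_factorThru s (N • 𝟙 M)]
  rw [Preadditive.comp_nsmul, Category.comp_id, Preadditive.nsmul_comp, Category.id_comp]

/-- The part killed by `N` of an injective sheaf. -/
noncomputable abbrev killedSeq (I : EtCoh.Ab X) (N : ℕ) : ShortComplex (EtCoh.Ab X) :=
  ShortComplex.mk (kernel.ι (N • 𝟙 I)) (N • 𝟙 I) (kernel.condition _)

include hN in
theorem killedSeq_shortExact : (killedSeq I N).ShortExact :=
  { exact := ShortComplex.exact_of_f_is_kernel _ (kernelIsKernel _)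
    mono_f := inferInstanceAs (Mono (kernel.ι (N • 𝟙 I)))
    epi_g := epi_of_free (N • 𝟙 I) fun U s => exists_nsmul_eq N hN (mono_nsmul_free U.1 N hN) s }

include hN in
theorem subsingleton_ext_killed {M : EtCoh.Ab X} (hM : Mono (N • 𝟙 M)) : ∀ q : ℕ,
    Subsingleton (Ext.{u + 1} M (killedSub I N) (q + 1))
  | 0 => by
    haveI := CohLib.subsingleton_ext_injective.{u + 1} M I 0
    exact CohLib.subsingleton_ext_one_of_lift (killedSeq_shortExact N hN) (exists_nsmul_eq N hN hM)
  | q + 1 => by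
    haveI := CohLib.subsingleton_ext_injective.{u + 1} M I q
    haveI := CohLib.subsingleton_ext_injective.{u + 1} M I (q + 1)
    exact CohLib.subsingleton_ext_of_shift (killedSeq_shortExact N hN)

theorem exists_efface [CompactSpace X] [QuasiSeparatedSpace X] {F : EtCoh.Ab X}
    (hF : IsCons (A := AddCommGrpCat.{u + 1}) FinP F) (q : ℕ) (α : Ext.{u + 1} (constZ X) F (q + 1)) :
    ∃ (G : EtCoh.Ab X) (u : F ⟶ G), IsCons (A := AddCommGrpCat.{u + 1}) FinP G ∧ Mono u ∧
      α.comp (Ext.mk₀ u) (add_zero _) = 0 := by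
  obtain ⟨N, hN, hNF⟩ := exists_nsmul_eq_zero hF
  let I := Injective.under F
  let K := killedSub I N
  let g : F ⟶ K := kernel.lift _ (Injective.ι F) (by
    rw [Preadditive.comp_nsmul, Category.comp_id, ← Category.id_comp (Injective.ι F), ← Preadditive.nsmul_comp,
      hNF, zero_comp])
  haveI : Mono g := mono_of_mono_fac (kernel.lift_ι _ _ _)
  haveI : Subsingleton (Ext.{u + 1} (constZ X) K (q + 1)) :=
    subsingleton_ext_killed N hN (mono_nsmul_constZ N hN) q
  have hK : TorsionBy (fun n => 0 < n) K := fun Ω _ _ ξ p => by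
    obtain ⟨m, hm, hp⟩ := torsionBy_of_killedBy (n := N) (F := K) (fun U s => by
      rw [← app_nsmul_id, nsmul_id_killedSub]
      rfl) Ω ξ p
    exact ⟨m, hm.symm ▸ hN, hp⟩
  obtain ⟨hc⟩ := nonempty_isColimit_consCocone K hK
  haveI := isFiltered_consOver K
  obtain ⟨p, e, he⟩ := exists_presOver hF g
  obtain ⟨i⟩ := nonempty_free_top_iso X
  have hU : EtCoh.top X ∈ qcqsObj X := ⟨‹CompactSpace X›, ‹QuasiSeparatedSpace X›⟩
  haveI := preservesFiltered_ext_free hU (q + 1) (ConsOver K)
  let E := Abelian.extFunctorObj.{u + 1} (free (EtCoh.top X)) (q + 1)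
  let β : Ext.{u + 1} (free (EtCoh.top X)) F (q + 1) := (Ext.mk₀ i.hom).comp α (zero_add _)
  have h0 : E.map ((consCocone K).ι.app p) (E.map e.hom β) = E.map ((consCocone K).ι.app p) 0 := by
    rw [map_zero]
    show (β.comp (Ext.mk₀ e.hom) (add_zero _)).comp (Ext.mk₀ p.toOver.hom) (add_zero _) = 0
    rw [Ext.comp_assoc_of_second_deg_zero, Ext.mk₀_comp_mk₀, he,
      Ext.comp_assoc_of_third_deg_zero, Subsingleton.elim (α.comp (Ext.mk₀ g) (add_zero _)) 0, Ext.comp_zero]
  obtain ⟨r, a, b, hab⟩ := (Concrete.isColimit_rep_eq_iff_exists (F := consDiagram K ⋙ E)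
    (isColimitOfPreserves E hc) (E.map e.hom β) (0 : E.obj ((consDiagram K).obj p))).1 h0
  refine ⟨(consDiagram K).obj r, e.hom ≫ (consDiagram K).map a, PresOver.isCons (F := K) r, ?_, ?_⟩
  · haveI : Mono ((e.hom ≫ (consDiagram K).map a) ≫ (consCocone K).ι.app r) := by
      rw [Category.assoc, (consCocone K).w a]
      show Mono (e.hom ≫ p.toOver.hom)
      rw [he]
      infer_instance
    exact mono_of_mono _ ((consCocone K).ι.app r)
  · have h1 : β.comp (Ext.mk₀ (e.hom ≫ (consDiagram K).map a)) (add_zero _) = 0 := by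
      rw [← Ext.mk₀_comp_mk₀, ← Ext.comp_assoc_of_second_deg_zero]
      exact hab.trans (map_zero ((consDiagram K ⋙ E).map b).hom)
    have hα : α = (Ext.mk₀ i.inv).comp β (zero_add _) := by
      show α = (Ext.mk₀ i.inv).comp ((Ext.mk₀ i.hom).comp α (zero_add _)) (zero_add _)
      rw [Ext.mk₀_comp_mk₀_assoc, Iso.inv_hom_id, Ext.mk₀_id_comp]
    rw [hα, Ext.comp_assoc_of_third_deg_zero, h1, Ext.comp_zero]

end Groth.Agent.ConsEffaceLib
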